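import Cfsg.Agent.H106.RC.Cover
import Cfsg.Agent.H202.RC.Orbit

/-!
# S3510: abstract rules with a nilpotent subgroup (helper380)

* `cover_loc` : local version of `H202.RC.cover`;
* `lr_loc` : `P` a `U`-invariant property of points, every point without `P` is fixed by some `x j`; then every point
  without `P` has a `j` such that `x j` fixes its whole `U`-orbit;
* `comm_le` : then `[U, x j]` fixes the point;
* `point_rule` : `x j` commuting, prime orders prime to `|U|`, normalising the nilpotent group `U`, covering `Ω`; if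
  `y ∈ [U, x j]` for all `j` then `y` fixes all the points;
* `lr_rule` : the same, but `{y} ∪ {x j}` covers `Ω` and `y` commutes with `U` (`y` need not be normalised by `x j`);
* `lr_one` : the rule for only one `x` (no condition on the order).
-/

set_option autoImplicit false

namespace Cfsg.Agent.H380.RC

open MulAction Cfsg.Agent.H202.RC Cfsg.Agent.H106.RC

section cover

variable {G Ω ι : Type*} [Group G] [MulAction G Ω]

variable [Finite ι] {x : ι → G} {r : ι → ℕ} in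
/-- **Local version of `H202.RC.cover`**: only the points of the orbit `U ω` have to be fixed by some `x i`. -/
theorem cover_loc (hr : ∀ i, (r i).Prime) (hx : ∀ i, x i ^ r i = 1) (hc : ∀ i j, x i * x j = x j * x i)
    {U : Subgroup G} [Finite U] {ω : Ω} (hcov : ∀ u ∈ U, ∃ i, x i • u • ω = u • ω) (hU : ∀ i, ∀ u ∈ U, x i * u * (x i)⁻¹ ∈ U)
    (hUr : ((∀ u ∈ U, ∀ v ∈ U, u * v = v * u) ∧
        ∀ i j, ¬ (r i).Coprime (Nat.card U) → ¬ (r j).Coprime (Nat.card U) → i = j) ∨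
      (Group.IsNilpotent U ∧ ∀ i, (r i).Coprime (Nat.card U))) :
    ∃ i, ∀ u ∈ U, x i • u • ω = u • ω := by
  classical
  by_contra hcon
  push Not at hcon
  have hU' : ∀ i u, u ∈ U ↔ x i * u * (x i)⁻¹ ∈ U := by
    intro i u
    refine ⟨hU i u, fun h => ?_⟩
    have h1 : ∀ n : ℕ, x i ^ n * (x i * u * (x i)⁻¹) * (x i ^ n)⁻¹ ∈ U := by
      intro n
      induction n with
      | zero => simpa using h
      | succ n ih =>
        have h2 := hU i _ ih
        have h3 : x i * (x i ^ n * (x i * u * (x i)⁻¹) * (x i ^ n)⁻¹) * (x i)⁻¹ =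
            x i ^ (n + 1) * (x i * u * (x i)⁻¹) * (x i ^ (n + 1))⁻¹ := by
          rw [pow_succ']
          group
        rwa [h3] at h2
    obtain ⟨n, hn⟩ : ∃ n, r i = n + 1 := ⟨r i - 1, by have := (hr i).pos; omega⟩
    have h4 := h1 n
    have h5 : x i ^ n = (x i)⁻¹ := by
      rw [eq_inv_iff_mul_eq_one, ← pow_succ, ← hn]
      exact hx i
    rw [h5] at h4
    have h6 : (x i)⁻¹ * (x i * u * (x i)⁻¹) * ((x i)⁻¹)⁻¹ = u := by group
    rwa [h6] at h4
  -- the `x i` with a fixed point in the orbit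
  let I := {i : ι // ∃ u ∈ U, x i • u • ω = u • ω}
  have hpres : ∀ (i : I) (y : Ω), y ∈ MulAction.orbit U ω ↔ x i.1 • y ∈ MulAction.orbit U ω := by
    rintro ⟨i, u, hu, hi⟩ y
    constructor
    · rintro ⟨v, rfl⟩
      refine ⟨⟨x i * (v * u⁻¹) * (x i)⁻¹ * u, U.mul_mem (hU i _ (U.mul_mem v.2 (U.inv_mem hu))) hu⟩, ?_⟩
      change (x i * (v * u⁻¹) * (x i)⁻¹ * u) • ω = x i • (v : G) • ω
      have h1 : (x i)⁻¹ • u • ω = u • ω := by rw [inv_smul_eq_iff, hi]
      rw [mul_smul, mul_smul, h1, mul_smul, mul_smul, inv_smul_smul]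
    · rintro ⟨v, hv⟩
      change (v : G) • ω = x i • y at hv
      have h1 : (x i)⁻¹ * (v * u⁻¹) * x i ∈ U := by
        rw [hU' i]
        have h2 : x i * ((x i)⁻¹ * (v * u⁻¹) * x i) * (x i)⁻¹ = v * u⁻¹ := by group
        rw [h2]
        exact U.mul_mem v.2 (U.inv_mem hu)
      refine ⟨⟨(x i)⁻¹ * (v * u⁻¹) * x i * u, U.mul_mem h1 hu⟩, ?_⟩
      change ((x i)⁻¹ * (v * u⁻¹) * x i * u) • ω = y
      rw [mul_smul, mul_smul, hi, mul_smul, mul_smul, inv_smul_smul, hv, inv_smul_smul]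
  let y : I → Equiv.Perm (MulAction.orbit U ω) := fun i =>
    { toFun := fun d => ⟨x i.1 • (d : Ω), (hpres i d).1 d.2⟩
      invFun := fun d => ⟨(x i.1)⁻¹ • (d : Ω), (hpres i _).2 (by rw [smul_inv_smul]; exact d.2)⟩
      left_inv := fun d => Subtype.ext (inv_smul_smul _ _)
      right_inv := fun d => Subtype.ext (smul_inv_smul _ _) }
  have hy : ∀ (i : I) (d : MulAction.orbit U ω), ((y i d : _) : Ω) = x i.1 • (d : Ω) := fun i d => rfl
  have hypow : ∀ (i : I) (m : ℕ) (d : MulAction.orbit U ω), (((y i ^ m) d : _) : Ω) = x i.1 ^ m • (d : Ω) := by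
    intro i m
    induction m with
    | zero => intro d; simp
    | succ m ih => intro d; rw [pow_succ, Equiv.Perm.mul_apply, ih, hy, pow_succ, mul_smul]
  have hαpow : ∀ (i : ι) (m : ℕ) (u : U), (((conjU (x i) (hU' i) ^ m) u : U) : G) = x i ^ m * u * (x i ^ m)⁻¹ := by
    intro i m
    induction m with
    | zero => intro u; simp
    | succ m ih =>
      intro u
      rw [pow_succ, MulAut.mul_apply, ih, conjU_coe, pow_succ]
      group
  have hN : Nrm y (fun i => conjU (x i.1) (hU' i.1)) (fun i => r i.1) := by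
    refine ⟨fun i => hr _, ?_, ?_, ?_, ?_, ?_⟩
    · intro i j d
      apply Subtype.ext
      rw [hy, hy, hy, hy, ← mul_smul, ← mul_smul, hc]
    · intro i j u
      apply Subtype.ext
      rw [conjU_coe, conjU_coe, conjU_coe, conjU_coe]
      have h1 := hc i.1 j.1
      have h2 : x i.1 * (x j.1 * (u : G) * (x j.1)⁻¹) * (x i.1)⁻¹ = (x i.1 * x j.1) * u * (x i.1 * x j.1)⁻¹ := by group
      rw [h2, h1]
      group
    · intro i u d
      apply Subtype.ext
      change x i.1 • (u : G) • (d : Ω) = (x i.1 * u * (x i.1)⁻¹) • x i.1 • (d : Ω)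
      rw [← mul_smul, ← mul_smul]
      group
    · intro i
      ext d
      rw [hypow, hx, one_smul]
      rfl
    · intro i
      ext u
      rw [hαpow, hx]
      simp
  have hne : ∀ i : I, ∃ d, y i d ≠ d := by
    intro i
    obtain ⟨u, hu, h1⟩ := hcon i.1
    exact ⟨⟨u • ω, ⟨⟨u, hu⟩, rfl⟩⟩, fun h2 => h1 (congrArg Subtype.val h2)⟩
  have hno : Nonempty (MulAction.orbit U ω) := ⟨⟨ω, MulAction.mem_orbit_self _⟩⟩
  have htr : ∀ d d' : MulAction.orbit U ω, ∃ u : U, u • d = d' := fun d d' => MulAction.exists_smul_eq U d d'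
  obtain ⟨d, hd⟩ : ∃ d, ∀ i : I, y i d ≠ d := by
    rcases hUr with ⟨hab, huq⟩ | ⟨hnil, hco⟩
    · let _ : CommGroup U :=
        { (inferInstance : Group U) with mul_comm := fun a b => Subtype.ext (hab a a.2 b b.2) }
      exact exists_moved (U := U) hN htr (fun i j hi hj => Subtype.ext (huq _ _ hi hj)) hne
    · exact exists_moved_nil_aux _ hN htr (fun i => hco i.1) hne rfl
  obtain ⟨u, hu⟩ := d.2
  have hu' : (u : G) • ω = d := hu
  obtain ⟨i, hi⟩ := hcov u u.2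
  rw [hu'] at hi
  have hiI : ∃ u ∈ U, x i • u • ω = u • ω := ⟨u, u.2, by rw [hu', hi]⟩
  exact hd ⟨i, hiI⟩ (Subtype.ext hi)


/-- the commutators `[u, x]`, `u ∈ U` -/
def cmm (U : Subgroup G) (x : G) : Subgroup G := Subgroup.closure {z | ∃ u ∈ U, z = u * x * u⁻¹ * x⁻¹}

theorem mem_cmm {U : Subgroup G} {x u : G} (hu : u ∈ U) : u * x * u⁻¹ * x⁻¹ ∈ cmm U x :=
  Subgroup.subset_closure ⟨u, hu, rfl⟩

/-- `x` fixes the orbit `U ω`, then `[U, x]` fixes `ω` -/
theorem comm_le {U : Subgroup G} {x : G} {ω : Ω} (h : ∀ u ∈ U, x • u • ω = u • ω) : cmm U x ≤ stabilizer G ω := by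
  rw [cmm, Subgroup.closure_le]
  rintro _ ⟨u, hu, rfl⟩
  have h1 : x • ω = ω := by simpa using h 1 U.one_mem
  have h2 : x⁻¹ • ω = ω := by rw [inv_smul_eq_iff, h1]
  have h3 := h u⁻¹ (U.inv_mem hu)
  show (u * x * u⁻¹ * x⁻¹) • ω = ω
  rw [mul_smul, h2, mul_smul, mul_smul, h3, smul_inv_smul]

/-- `[U, x]` is normalised by `U` -/
theorem cmm_conj {U : Subgroup G} {x v z : G} (hv : v ∈ U) (hz : z ∈ cmm U x) : v * z * v⁻¹ ∈ cmm U x := by
  have h : cmm U x ≤ (cmm U x).comap (MulAut.conj v).toMonoidHom := by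
    conv_lhs => rw [cmm]
    rw [Subgroup.closure_le]
    rintro _ ⟨u, hu, rfl⟩
    change v * (u * x * u⁻¹ * x⁻¹) * v⁻¹ ∈ cmm U x
    have h1 : v * (u * x * u⁻¹ * x⁻¹) * v⁻¹ = ((v * u) * x * (v * u)⁻¹ * x⁻¹) * (v * x * v⁻¹ * x⁻¹)⁻¹ := by group
    rw [h1]
    exact (cmm U x).mul_mem (mem_cmm (U.mul_mem hv hu)) ((cmm U x).inv_mem (mem_cmm hv))
  exact h hz

/-- `[v, z] ∈ [U, x]` for `v ∈ U`, `z ∈ [U, x]` -/
theorem cmm_comm {U : Subgroup G} {x v z : G} (hv : v ∈ U) (hz : z ∈ cmm U x) : v * z * v⁻¹ * z⁻¹ ∈ cmm U x :=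
  (cmm U x).mul_mem (cmm_conj hv hz) ((cmm U x).inv_mem hz)

/-- **Local rule.** -/
theorem lr_loc [Finite ι] {x : ι → G} {r : ι → ℕ} (hr : ∀ i, (r i).Prime) (hx : ∀ i, x i ^ r i = 1)
    (hc : ∀ i j, x i * x j = x j * x i) {U : Subgroup G} [Finite U] {P : Ω → Prop}
    (hP : ∀ u ∈ U, ∀ ω, P (u • ω) → P ω) (hcov : ∀ ω : Ω, P ω ∨ ∃ i, x i • ω = ω)
    (hU : ∀ i, ∀ u ∈ U, x i * u * (x i)⁻¹ ∈ U)
    (hUr : ((∀ u ∈ U, ∀ v ∈ U, u * v = v * u) ∧
        ∀ i j, ¬ (r i).Coprime (Nat.card U) → ¬ (r j).Coprime (Nat.card U) → i = j) ∨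
      (Group.IsNilpotent U ∧ ∀ i, (r i).Coprime (Nat.card U))) (ω : Ω) :
    P ω ∨ ∃ i, ∀ u ∈ U, x i • u • ω = u • ω := by
  by_cases hω : P ω
  · exact Or.inl hω
  · right
    refine cover_loc hr hx hc (ω := ω) (fun u hu => ?_) hU hUr
    rcases hcov (u • ω) with h | h
    · exact absurd (hP u hu ω h) hω
    · exact h

/-- **Point rule.** -/
theorem point_rule [Finite ι] {x : ι → G} {r : ι → ℕ} (hr : ∀ i, (r i).Prime) (hx : ∀ i, x i ^ r i = 1)
    (hc : ∀ i j, x i * x j = x j * x i) {U : Subgroup G} [Finite U] (hcov : Cov Ω x)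
    (hU : ∀ i, ∀ u ∈ U, x i * u * (x i)⁻¹ ∈ U) (hUn : Group.IsNilpotent U) (hUr : ∀ i, (r i).Coprime (Nat.card U))
    {y : G} (hy : ∀ i, y ∈ cmm U (x i)) (ω : Ω) : y • ω = ω := by
  obtain ⟨i, hi⟩ := cover_loc hr hx hc (ω := ω) (fun u _ => hcov _) hU (Or.inr ⟨hUn, hUr⟩)
  exact comm_le hi (hy i)

/-- **Long root rule.** -/
theorem lr_rule [Finite ι] {x : ι → G} {r : ι → ℕ} (hr : ∀ i, (r i).Prime) (hx : ∀ i, x i ^ r i = 1)
    (hc : ∀ i j, x i * x j = x j * x i) {U : Subgroup G} [Finite U] {y : G}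
    (hcov : ∀ ω : Ω, y • ω = ω ∨ ∃ i, x i • ω = ω)
    (hU : ∀ i, ∀ u ∈ U, x i * u * (x i)⁻¹ ∈ U) (hUn : Group.IsNilpotent U) (hUr : ∀ i, (r i).Coprime (Nat.card U))
    (hyU : ∀ u ∈ U, u * y = y * u) (hy : ∀ i, y ∈ cmm U (x i)) (ω : Ω) : y • ω = ω := by
  have hinv : ∀ u ∈ U, ∀ ω : Ω, y • u • ω = u • ω → y • ω = ω := by
    intro u hu ω h
    rw [← mul_smul, ← hyU u hu, mul_smul] at h
    exact (MulAction.injective u) h
  rcases lr_loc (P := fun ω => y • ω = ω) hr hx hc (U := U) hinv hcov hU (Or.inr ⟨hUn, hUr⟩) ω with h | h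
  · exact h
  · obtain ⟨i, hi⟩ := h
    exact comm_le hi (hy i)

/-- **The rule for one element**: no condition on orders, `U` any subgroup commuting with `y` -/
theorem lr_one {x y : G} {U : Subgroup G} (hcov : ∀ ω : Ω, y • ω = ω ∨ x • ω = ω)
    (hyU : ∀ u ∈ U, u * y = y * u) (hy : y ∈ cmm U x) (ω : Ω) : y • ω = ω := by
  by_contra hω
  apply hω
  refine comm_le (U := U) (x := x) (fun u hu => ?_) hy
  rcases hcov (u • ω) with h | h
  · exfalso
    apply hω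
    rw [← mul_smul, ← hyU u hu, mul_smul] at h
    exact (MulAction.injective u) h
  · exact h

end cover

section env

variable {G Ω ι : Type*} [Group G] [MulAction G Ω] {N : Subgroup G}

/-- **Point rule**: contradiction form. -/
theorem not_cov_point [Finite ι] [Nonempty Ω] (hE : Env G Ω N) {x : ι → G} {r : ι → ℕ} (hr : ∀ i, (r i).Prime)
    (hx : ∀ i, x i ^ r i = 1) (hc : ∀ i j, x i * x j = x j * x i) {U : Subgroup G} [Finite U] (hcov : Cov Ω x)
    (hU : ∀ i, ∀ u ∈ U, x i * u * (x i)⁻¹ ∈ U) (hUn : Group.IsNilpotent U) (hUr : ∀ i, (r i).Coprime (Nat.card U))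
    {y : G} (hy1 : y ≠ 1) (hy : ∀ i, y ∈ cmm U (x i)) : False :=
  hE.not_all hy1 fun ω => point_rule hr hx hc hcov hU hUn hUr hy ω

/-- **Long root rule**: contradiction form. -/
theorem not_cov_lr [Finite ι] [Nonempty Ω] (hE : Env G Ω N) {x : ι → G} {r : ι → ℕ} (hr : ∀ i, (r i).Prime)
    (hx : ∀ i, x i ^ r i = 1) (hc : ∀ i j, x i * x j = x j * x i) {U : Subgroup G} [Finite U] {y : G}
    (hcov : ∀ ω : Ω, y • ω = ω ∨ ∃ i, x i • ω = ω)
    (hU : ∀ i, ∀ u ∈ U, x i * u * (x i)⁻¹ ∈ U) (hUn : Group.IsNilpotent U) (hUr : ∀ i, (r i).Coprime (Nat.card U))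
    (hyU : ∀ u ∈ U, u * y = y * u) (hy1 : y ≠ 1) (hy : ∀ i, y ∈ cmm U (x i)) : False :=
  hE.not_all hy1 fun ω => lr_rule hr hx hc hcov hU hUn hUr hyU hy ω

/-- contradiction form of `lr_one` -/
theorem not_cov_one [Nonempty Ω] (hE : Env G Ω N) {x y : G} {U : Subgroup G}
    (hcov : ∀ ω : Ω, y • ω = ω ∨ x • ω = ω) (hyU : ∀ u ∈ U, u * y = y * u) (hy1 : y ≠ 1) (hy : y ∈ cmm U x) : False :=
  hE.not_all hy1 fun ω => lr_one hcov hyU hy ω

end env

end Cfsg.Agent.H380.RC
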