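import Cfsg.Agent.H380.RC.UEnv
import Cfsg.Prelude.Def_Classical

/-!
# S3510, family E (unitary groups): exact statements of the boxes (helper380)

Everything is about `U : UEnv G Ω N F n q` and a family `UFam U x f r` (`PF x r`, commuting lifts `f i`) with `Cov Ω x`.
-/

set_option autoImplicit false

namespace Cfsg.Agent.H380.RC

open Matrix Cfsg Cfsg.Agent.LieClassical.HermBasic Cfsg.Agent.LieClassical.HermSiegel
  Cfsg.Agent.ClassicalGeometry.PSUAutBasic Cfsg.Agent.ClassicalGeometry.PSUAutCount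

section defs

variable {F : Type*} [Field F] {n : ℕ}

/-- `f` is linear -/
def Lin (f : (Fin n → F) → (Fin n → F)) : Prop := ∀ (c : F) (v : Fin n → F), f (c • v) = c • f v

/-- `A` is `f`-invariant -/
def Stab (f : (Fin n → F) → (Fin n → F)) (A : Submodule F (Fin n → F)) : Prop := ∀ v ∈ A, f v ∈ A

/-- `f` is a scalar on `A` -/
def ScalOn (f : (Fin n → F) → (Fin n → F)) (A : Submodule F (Fin n → F)) : Prop := ∃ c : F, ∀ v ∈ A, f v = c • v

/-- `A` is nondegenerate -/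
def NDeg (q : ℕ) (A : Submodule F (Fin n → F)) : Prop := ∀ v ∈ A, (∀ w ∈ A, hermForm n F q v w = 0) → v = 0

/-- `A` is totally singular -/
def TS (q : ℕ) (A : Submodule F (Fin n → F)) : Prop := ∀ v ∈ A, ∀ w ∈ A, hermForm n F q v w = 0

end defs

/-- a family in the sense of the hub, with commuting lifts; the order of `f i` is a power of `r i` -/
structure UFam {G Ω : Type*} [Group G] [MulAction G Ω] {N : Subgroup G} {F : Type*} [Field F] [Fintype F] {n q : ℕ}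
    (U : UEnv G Ω N F n q) {ι : Type*} (x : ι → G) (f : ι → (Fin n → F) → (Fin n → F)) (r : ι → ℕ) : Prop where
  pf : H106.RC.PF x r
  lft : ∀ i, U.Lft (x i) (f i)
  comm : ∀ i j v, f i (f j v) = f j (f i v)
  ord : ∀ i, ∃ k, ∀ v, (f i)^[r i ^ k] v = v

/-- the conclusion: there is no cover by a family with the property `P` -/
def NoC (P : ∀ {G Ω : Type} [Group G] [MulAction G Ω] {N : Subgroup G} {F : Type} [Field F] [Fintype F] {n q : ℕ}
    (_ : UEnv G Ω N F n q) {ι : Type} (_ : ι → G) (_ : ι → (Fin n → F) → (Fin n → F)) (_ : ι → ℕ), Prop) : Prop :=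
  ∀ {G Ω : Type} [Group G] [Finite G] [Finite Ω] [Nonempty Ω] [MulAction G Ω] {N : Subgroup G} {F : Type} [Field F]
    [Fintype F] {n q : ℕ} (U : UEnv G Ω N F n q) {ι : Type} [Finite ι] (x : ι → G)
    (f : ι → (Fin n → F) → (Fin n → F)) (r : ι → ℕ), UFam U x f r → H106.RC.Cov Ω x → P U x f r → False

/-- E0 : commuting lifts exist -/
def LiftStmt : Prop :=
  ∀ {G Ω : Type} [Group G] [Finite G] [MulAction G Ω] {N : Subgroup G} {F : Type} [Field F]
    [Fintype F] {n q : ℕ} (U : UEnv G Ω N F n q) {ι : Type} [Finite ι] (x : ι → G) (r : ι → ℕ), H106.RC.PF x r →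
    ∃ f, UFam U x f r

/-- E4 (DEC) : an invariant nondegenerate subspace `A ≠ V`, `dim A ≥ 3`, on which no `x i` of order `p` is a scalar -/
def DecStmt : Prop :=
  NoC fun {_ _ _ _ _ F _ _ n q} _ {ι} _ f r => ∃ A : Submodule F (Fin n → F), NDeg q A ∧ A ≠ ⊤ ∧
    3 ≤ Module.finrank F A ∧ ¬ (Module.finrank F A = 3 ∧ q = 2) ∧ (∀ i : ι, Stab (f i) A) ∧
    (∀ i : ι, ScalOn (f i) A → (r i).Coprime q) ∧ H106.RC.RC (PSU (Module.finrank F A) F q)

/-- E5 (D) : `V = W ⊕ W'`, totally singular, invariant (the `f i` may be semilinear) -/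
def DStmt : Prop :=
  NoC fun {_ _ _ _ _ F _ _ n q} _ {ι} _ f _ => ∃ W W' : Submodule F (Fin n → F), TS q W ∧ TS q W' ∧ IsCompl W W' ∧
    (∀ i : ι, Stab (f i) W ∧ Stab (f i) W') ∧
    (H106.RC.RC (Matrix.ProjectiveSpecialLinearGroup (Fin (Module.finrank F W)) F) ∨
      ∀ i j : ι, ¬ ScalOn (f i) W → ¬ ScalOn (f j) W → i = j)

/-- E5' (D with swaps) : some `f i` may interchange `W` and `W'` -/
def DSwapStmt : Prop :=
  NoC fun {_ _ _ _ _ F _ _ n q} _ {ι} _ f _ => ∃ W W' : Submodule F (Fin n → F), TS q W ∧ TS q W' ∧ IsCompl W W' ∧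
    (∀ i : ι, (Stab (f i) W ∧ Stab (f i) W') ∨
      ((∀ v ∈ W, f i v ∈ W') ∧ (∀ v ∈ W', f i v ∈ W) ∧ ∃ w ∈ W, hermForm n F q w (f i w) ≠ 0)) ∧
    (H106.RC.RC (Matrix.ProjectiveSpecialLinearGroup (Fin (Module.finrank F W)) F) ∨
      ∀ i j : ι, ¬ ScalOn (f i) W → ¬ ScalOn (f j) W → i = j)

/-- E6 (L) : a field `K ⊇ F` of endomorphisms of `V`, closed under adjoints, commuting with all `f i`,
`dim_K V ≥ 3`, `K ≠ F` -/
def LStmt : Prop :=
  NoC fun {_ _ _ _ _ F _ _ n q} _ {ι} _ f _ => ∃ (K : Type) (_ : Field K) (_ : Fintype K) (_ : Algebra F K)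
    (_ : Module K (Fin n → F)) (_ : IsScalarTower F K (Fin n → F)),
    (∀ a : K, ∃ b : K, ∀ v w : Fin n → F, hermForm n F q (a • v) w = hermForm n F q v (b • w)) ∧
    (∀ (i : ι) (a : K) (v : Fin n → F), f i (a • v) = a • f i v) ∧ 1 < Module.finrank F K ∧
    3 ≤ Module.finrank K (Fin n → F) ∧ H106.RC.IH (Nat.card (PSU n F q))

/-- E6a : the structure of `V` over `K` -/
def KStructStmt : Prop :=
  ∀ {F : Type} [Field F] [Fintype F] {n q : ℕ} (_ : Fintype.card F = q ^ 2) (K : Type) [Field K] [Fintype K] [Algebra F K]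
    [Module K (Fin n → F)] [IsScalarTower F K (Fin n → F)],
    (∀ a : K, ∃ b : K, ∀ v w : Fin n → F, hermForm n F q (a • v) w = hermForm n F q v (b • w)) →
    ∃ l m : ℕ, n = m * l ∧ Odd l ∧ Fintype.card K = (q ^ l) ^ 2 ∧ Module.finrank F K = l ∧
      ∃ ψ : (Fin m → K) ≃ₗ[K] (Fin n → F), ∀ a b : Fin m → K,
        hermForm n F q (ψ a) (ψ b) = Algebra.trace F K (hermForm m K (q ^ l) a b)

/-- E7 : all `f i` linear, of order prime to `p`, one of them (all of them) irreducible : character bound -/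
def IrrStmt : Prop :=
  NoC fun {_ _ _ _ _ F _ _ n q} _ {ι} _ f r => Odd n ∧ (∀ i : ι, Lin (f i)) ∧ (∀ i : ι, (r i).Coprime q) ∧
    ∀ (i : ι) (A : Submodule F (Fin n → F)), Stab (f i) A → A = ⊥ ∨ A = ⊤

/-- E8 (structure of commuting linear isometries of order prime to `p`) -/
def StrStmt : Prop :=
  ∀ {F : Type} [Field F] [Fintype F] {n q : ℕ} (_ : Fintype.card F = q ^ 2) (_ : 3 ≤ n) {ι : Type} [Finite ι]
    (f : ι → (Fin n → F) → (Fin n → F)), (∀ i, Lin (f i)) → (∀ i v w, f i (v + w) = f i v + f i w) →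
    (∀ i v w, hermForm n F q (f i v) (f i w) = hermForm n F q v w) → (∀ i j v, f i (f j v) = f j (f i v)) →
    (∀ i, ∃ m : ℕ, m.Coprime q ∧ ∀ v, (f i)^[m] v = v) →
    -- (S1) a common singular eigenvector
    (∃ e : Fin n → F, e ≠ 0 ∧ hermForm n F q e e = 0 ∧ ∀ i, ∃ c : F, f i e = c • e) ∨
    -- (S2) a large invariant nondegenerate subspace
    (∃ A : Submodule F (Fin n → F), NDeg q A ∧ A ≠ ⊤ ∧ 3 ≤ Module.finrank F A ∧
      ¬ (Module.finrank F A = 3 ∧ q = 2) ∧ ∀ i, Stab (f i) A) ∨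
    -- (S3) two totally singular halves
    (∃ W W' : Submodule F (Fin n → F), TS q W ∧ TS q W' ∧ IsCompl W W' ∧ ∀ i, Stab (f i) W ∧ Stab (f i) W') ∨
    -- (S4) a field, `V` of dimension at least 3 over it
    (∃ (K : Type) (_ : Field K) (_ : Fintype K) (_ : Algebra F K) (_ : Module K (Fin n → F))
      (_ : IsScalarTower F K (Fin n → F)),
      (∀ a : K, ∃ b : K, ∀ v w : Fin n → F, hermForm n F q (a • v) w = hermForm n F q v (b • w)) ∧
      (∀ (i : ι) (a : K) (v : Fin n → F), f i (a • v) = a • f i v) ∧ 1 < Module.finrank F K ∧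
      3 ≤ Module.finrank K (Fin n → F)) ∨
    -- (S4') every `f i` is a scalar or irreducible
    (Odd n ∧ ∀ i, ScalOn (f i) ⊤ ∨ ∀ A : Submodule F (Fin n → F), Stab (f i) A → A = ⊥ ∨ A = ⊤) ∨
    -- (S5) `n = 3`, an orthonormal frame of common eigenvectors
    (n = 3 ∧ ∃ w : Fin 3 → (Fin n → F), (∀ i j, hermForm n F q (w i) (w j) = if i = j then 1 else 0) ∧
      ∀ i j, ∃ c : F, f i (w j) = c • w j) ∨
    -- (S6) `q = 2`, orders dividing 9
    (q = 2 ∧ ∀ i v, (f i)^[9] v = v)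

/-- E9 (case I) : all linear, all of order prime to `p` -/
def CaseOne : Prop :=
  NoC fun {_ _ _ _ _ F _ _ n q} _ {ι} _ f r => ¬ (n = 4 ∧ q = 2) ∧ (∀ i : ι, Lin (f i)) ∧
    (∀ i : ι, (r i).Coprime q) ∧ H106.RC.IH (Nat.card (PSU n F q))

/-- E10 (case II) : all linear, one of them of order `p` -/
def CaseTwo : Prop :=
  NoC fun {_ _ _ _ _ F _ _ n q} _ {ι} _ f r => ¬ (n = 4 ∧ q = 2) ∧ (∀ i : ι, Lin (f i)) ∧
    (∃ i : ι, ¬ (r i).Coprime q) ∧ H106.RC.IH (Nat.card (PSU n F q))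

/-- E11 (case III.1) : one of them not linear, of odd order -/
def CaseField : Prop :=
  NoC fun {_ _ _ _ _ F _ _ n q} _ {ι} _ f r => ¬ (n = 4 ∧ q = 2) ∧ (∃ i : ι, ¬ Lin (f i) ∧ r i ≠ 2) ∧
    H106.RC.IH (Nat.card (PSU n F q))

/-- E12, E13, E14 (case III.2) : one of them not linear, of order 2, the others linear -/
def CaseGraph : Prop :=
  NoC fun {_ _ _ _ _ F _ _ n q} _ {ι} _ f r => ¬ (n = 4 ∧ q = 2) ∧
    (∃ i : ι, ¬ Lin (f i) ∧ r i = 2 ∧ ∀ j, j ≠ i → Lin (f j)) ∧ H106.RC.IH (Nat.card (PSU n F q))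

/-- normal form of a graph involution `x i₀` : `T = b f i₀`, `T² = 1` -/
structure GForm {G Ω : Type*} [Group G] [MulAction G Ω] {N : Subgroup G} {F : Type*} [Field F] [Fintype F] {n q : ℕ}
    (U : UEnv G Ω N F n q) {ι : Type*} (x : ι → G) (f : ι → (Fin n → F) → (Fin n → F)) (r : ι → ℕ) (i₀ : ι)
    (T : (Fin n → F) → (Fin n → F)) : Prop where
  fam : UFam U x f r
  r2 : r i₀ = 2
  nlin : ¬ Lin (f i₀)
  lin : ∀ j, j ≠ i₀ → Lin (f j)
  eq : ∃ b : F, b ≠ 0 ∧ ∀ v, T v = b • f i₀ v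
  TT : ∀ v, T (T v) = v
  add : ∀ v w, T (v + w) = T v + T w
  smul : ∀ (c : F) v, T (c • v) = c ^ q • T v
  herm : ∃ ε : F, (ε = 1 ∨ ε = -1) ∧ ∀ u v, hermForm n F q (T u) (T v) = ε * (hermForm n F q u v) ^ q
  comm : ∀ j, j ≠ i₀ → ∀ v, f j (T v) = T (f j v)

/-- E12a : the normal form exists -/
def GFormStmt : Prop :=
  ∀ {G Ω : Type} [Group G] [Finite G] [MulAction G Ω] {N : Subgroup G} {F : Type} [Field F]
    [Fintype F] {n q : ℕ} (U : UEnv G Ω N F n q) {ι : Type} [Finite ι] (x : ι → G)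
    (f : ι → (Fin n → F) → (Fin n → F)) (r : ι → ℕ) (_ : UFam U x f r) (i₀ : ι), ¬ Lin (f i₀) → r i₀ = 2 →
    (∀ j, j ≠ i₀ → Lin (f j)) → ∃ T, GForm U x f r i₀ T

/-- E12b (2a) : the form on the fixed points of `T` is alternating -/
def GraphAlt : Prop :=
  NoC fun {_ _ _ _ _ F _ _ n q} U {ι} x f r => ¬ (n = 4 ∧ q = 2) ∧ H106.RC.IH (Nat.card (PSU n F q)) ∧
    ∃ (i₀ : ι) (T : (Fin n → F) → (Fin n → F)), GForm U x f r i₀ T ∧ ∀ v, T v = v → hermForm n F q v v = 0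

/-- E13 (2b, 2c) : the form on the fixed points of `T` is symmetric, not alternating, `q` odd -/
def GraphSym : Prop :=
  NoC fun {_ _ _ _ _ F _ _ n q} U {ι} x f r => Odd q ∧ H106.RC.IH (Nat.card (PSU n F q)) ∧
    ∃ (i₀ : ι) (T : (Fin n → F) → (Fin n → F)), GForm U x f r i₀ T ∧ ∃ v, T v = v ∧ hermForm n F q v v ≠ 0

/-- E13x : `n = 4`, `q = 3`, `T` symmetric, a linear element of order 5 -/
def GraphFourThree : Prop :=
  NoC fun {_ _ _ _ _ F _ _ n q} U {ι} x f r => n = 4 ∧ q = 3 ∧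
    ∃ (i₀ j₀ : ι) (T : (Fin n → F) → (Fin n → F)), GForm U x f r i₀ T ∧ (∃ v, T v = v ∧ hermForm n F q v v ≠ 0) ∧
      r j₀ = 5 ∧ ∀ i, i = i₀ ∨ i = j₀

/-- E14 (2d) : the same, `q` even -/
def GraphEven : Prop :=
  NoC fun {_ _ _ _ _ F _ _ n q} U {ι} x f r => Even q ∧ ¬ (n = 4 ∧ q = 2) ∧ H106.RC.IH (Nat.card (PSU n F q)) ∧
    ∃ (i₀ : ι) (T : (Fin n → F) → (Fin n → F)), GForm U x f r i₀ T ∧ ∃ v, T v = v ∧ hermForm n F q v v ≠ 0

/-- a family without condition on the primes: commuting lifts, some members are not of prime order -/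
structure GFam {G Ω : Type*} [Group G] [MulAction G Ω] {N : Subgroup G} {F : Type*} [Field F] [Fintype F] {n q : ℕ}
    (U : UEnv G Ω N F n q) {ι : Type*} (x : ι → G) (f : ι → (Fin n → F) → (Fin n → F)) : Prop where
  ne : ∀ i, x i ≠ 1
  lft : ∀ i, U.Lft (x i) (f i)
  comm : ∀ i j v, f i (f j v) = f j (f i v)

/-- E4g (general DEC) : `A` nondegenerate, invariant; the `f i` act on `A` as scalars times powers of one isometry `g`
of `A`; those which are scalars on `A` have prime order different from `p` -/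
def GDecStmt : Prop :=
  ∀ {G Ω : Type} [Group G] [Finite G] [Finite Ω] [Nonempty Ω] [MulAction G Ω] {N : Subgroup G} {F : Type} [Field F]
    [Fintype F] {n q : ℕ} (U : UEnv G Ω N F n q) {ι : Type} [Finite ι] (x : ι → G)
    (f : ι → (Fin n → F) → (Fin n → F)), GFam U x f → H106.RC.Cov Ω x →
    ∀ (A : Submodule F (Fin n → F)) (g : (Fin n → F) → (Fin n → F)), NDeg q A → A ≠ ⊤ →
    2 ≤ Module.finrank F A → ¬ (Module.finrank F A = 3 ∧ q = 2) → ¬ (Module.finrank F A = 2 ∧ q ≤ 3) →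
    (∀ i : ι, Lin (f i) ∧ Stab (f i) A) →
    (∀ i : ι, ScalOn (f i) A → ∃ r : ℕ, r.Prime ∧ r.Coprime q ∧ x i ^ r = 1) →
    (∀ v w, g (v + w) = g v + g w) → Lin g → Stab g A →
    (∀ v ∈ A, ∀ w ∈ A, hermForm n F q (g v) (g w) = hermForm n F q v w) →
    (∀ i : ι, ∃ (k : ℕ) (c : F), ∀ v ∈ A, f i v = c • g^[k] v) →
    ((3 ≤ Module.finrank F A ∧ H106.RC.RC (PSU (Module.finrank F A) F q)) ∨
     (Module.finrank F A = 2 ∧ ∀ (K : Type) [Field K] [Fintype K], Fintype.card K = q →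
        H106.RC.RC (Matrix.ProjectiveSpecialLinearGroup (Fin 2) K)) ∨
     (∃ r k : ℕ, r.Prime ∧ ∃ c : F, ∀ v ∈ A, g^[r ^ k] v = c • v)) → False

/-- E16 : smaller groups -/
def SmallStmt : Prop :=
  ∀ {F : Type} [Field F] [Fintype F] {n q : ℕ}, Fintype.card F = q ^ 2 → 3 ≤ n → ¬ (n = 3 ∧ q = 2) →
    H106.RC.IH (Nat.card (PSU n F q)) →
    -- (a) smaller dimension
    (∀ m, 3 ≤ m → m < n → ¬ (m = 3 ∧ q = 2) → H106.RC.RC (PSU m F q)) ∧
    -- (b) field extension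
    (∀ (K : Type) [Field K] [Fintype K] (l m : ℕ), n = m * l → 3 ≤ l → 3 ≤ m → Fintype.card K = (q ^ l) ^ 2 →
      H106.RC.RC (PSU m K (q ^ l))) ∧
    (∀ (K : Type) [Field K] [Fintype K] (l : ℕ), n = 2 * l → 3 ≤ l → Fintype.card K = q ^ l →
      H106.RC.RC (Matrix.ProjectiveSpecialLinearGroup (Fin 2) K)) ∧
    -- (c) the stabiliser of two totally singular halves
    (∀ d, n = 2 * d → ¬ (d = 2 ∧ q ≤ 3) → H106.RC.RC (Matrix.ProjectiveSpecialLinearGroup (Fin d) F)) ∧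
    -- (d) subfields
    (∀ (K : Type) [Field K] [Fintype K] (s t : ℕ), q = s ^ t → 1 < t → Fintype.card K = s ^ 2 →
      ¬ (n = 3 ∧ s = 2) → H106.RC.RC (PSU n K s)) ∧
    -- (e) `PSL 2 q`
    (∀ (K : Type) [Field K] [Fintype K], Fintype.card K = q → 4 ≤ q → q ≠ 4 → q ≠ 5 → q ≠ 9 →
      H106.RC.RC (Matrix.ProjectiveSpecialLinearGroup (Fin 2) K)) ∧
    -- (f) symplectic groups
    (∀ (K : Type) [Field K] [Fintype K] (m : ℕ), Fintype.card K = q → n = 2 * m → ¬ (m = 2 ∧ q = 2) →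
      H106.RC.RC (PSp m K))

end Cfsg.Agent.H380.RC
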