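import Cfsg.Agent.H380.RC.EStmt
import Cfsg.Agent.S0822

/-!
# S3510, family E: the row for `PSU n F q` from the boxes (helper380)
-/

set_option autoImplicit false

namespace Cfsg.Agent.H380.RC

open Cfsg Cfsg.Agent.LieClassical.HermBasic

/-- the case of a graph involution -/
theorem caseGraph (hg : GFormStmt) (ha : GraphAlt) (hs : GraphSym) (he : GraphEven) : CaseGraph := by
  intro G Ω _ _ _ _ _ N F _ _ n q U ι _ x f r hfam hcov h
  obtain ⟨h42, ⟨i₀, h1, h2, h3⟩, hIH⟩ := h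
  obtain ⟨T, hT⟩ := hg U x f r hfam i₀ h1 h2 h3
  by_cases halt : ∀ v, T v = v → hermForm n F q v v = 0
  · exact ha U x f r hfam hcov ⟨h42, hIH, i₀, T, hT, halt⟩
  · push Not at halt
    rcases Nat.even_or_odd q with hq | hq
    · exact he U x f r hfam hcov ⟨hq, h42, hIH, i₀, T, hT, halt⟩
    · exact hs U x f r hfam hcov ⟨hq, hIH, i₀, T, hT, halt⟩

/-- **No covers for `PSU n F q`.** -/
theorem noCov_psu (hlift : LiftStmt) (h1 : CaseOne) (h2 : CaseTwo) (h3 : CaseField) (h4 : CaseGraph)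
    {F : Type} [Field F] [Fintype F] {n q : ℕ} (hF : Fintype.card F = q ^ 2) (hn : 3 ≤ n) (h32 : ¬ (n = 3 ∧ q = 2))
    (h42 : ¬ (n = 4 ∧ q = 2)) (hIH : H106.RC.IH (Nat.card (PSU n F q))) {S : Type} [Group S] (e : S ≃* PSU n F q) :
    H106.RC.NoCov S := by
  intro G _ _ Ω _ _ _ N hE eN ι _ x r hpf hcov _
  obtain ⟨U⟩ : Nonempty (UEnv G Ω N F n q) := ⟨⟨hE, eN.trans e, hF, hn, h32⟩⟩
  obtain ⟨f, hf⟩ := hlift U x r hpf
  by_cases hlin : ∀ i, Lin (f i)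
  · by_cases hr : ∀ i, (r i).Coprime q
    · exact h1 U x f r hf hcov ⟨h42, hlin, hr, hIH⟩
    · push Not at hr
      exact h2 U x f r hf hcov ⟨h42, hlin, hr, hIH⟩
  · by_cases hodd : ∃ i, ¬ Lin (f i) ∧ r i ≠ 2
    · exact h3 U x f r hf hcov ⟨h42, hodd, hIH⟩
    · push Not at hlin hodd
      obtain ⟨i₀, hi₀⟩ := hlin
      have hr2 := hodd i₀ hi₀
      refine h4 U x f r hf hcov ⟨h42, ⟨i₀, hi₀, hr2, fun j hj => ?_⟩, hIH⟩
      by_contra hjl
      exact hj (hpf.inj ((hodd j hjl).trans hr2.symm))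

/-- **The row for the unitary groups.** -/
theorem row_psu (hsp : H106.RC.Row (fun S _ => IsPSp S)) (hlift : LiftStmt) (h1 : CaseOne) (h2 : CaseTwo)
    (h3 : CaseField) (h4 : CaseGraph) : H106.RC.Row (fun S _ => IsPSU S) := by
  intro S _ _ hS hSn hP hE hIH
  have hP' := hP
  obtain ⟨F, _, _, n, q, hF, hn, h32, ⟨e⟩⟩ := hP'
  by_cases h42 : n = 4 ∧ q = 2
  · obtain ⟨rfl, rfl⟩ := h42
    obtain ⟨e'⟩ := S0822.result (F := F) (K := ZMod 3) (by rw [hF]; norm_num) (by rw [ZMod.card])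
    exact hsp S hS hSn ⟨ZMod 3, inferInstance, inferInstance, 2, by norm_num, by simp, ⟨e.trans e'⟩⟩ hE hIH
  · exact H106.RC.rc_of_noCov hS hSn
      (noCov_psu hlift h1 h2 h3 h4 hF hn h32 h42 (by rw [← Nat.card_congr e.toEquiv]; exact hIH) e)

end Cfsg.Agent.H380.RC
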