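import Cfsg.Agent.ClassicalGeometry.PSUAutMain
import Cfsg.Agent.H106.RC.Defs

/-!
# S3510, family E (unitary groups): semilinear isometries and the automorphisms they induce (helper380)

* `sl A ρ` : the semilinear isometry `v ↦ A ρ(v)` of `V = F ^ n`;
* `Ind f α` : `f = sl A ρ`, `α = toAut A ρ` for some `A`, `ρ`;
* `Fam x f r` : commuting automorphisms `x i ≠ 1` of prime orders `r i` with commuting lifts `f i`;
* `Cov x ω`, `Good x` : the cover condition, and its impossibility.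
-/

set_option autoImplicit false

namespace Cfsg.Agent.H380.RC

open Matrix Cfsg Cfsg.Agent.LieClassical.HermBasic Cfsg.Agent.LieClassical.HermSiegel
  Cfsg.Agent.LieClassical.HermGen Cfsg.Agent.LieClassical.SUBasic Cfsg.Agent.ClassicalGeometry.PSUAutBasic
  Cfsg.Agent.ClassicalGeometry.PSUAutCount Cfsg.Agent.LieClassical.FieldTransfer Cfsg.Agent.ClassicalGeometry

section Basic

variable {F : Type*} [Field F] {n q : ℕ}

/-- the semilinear isometry `v ↦ A ρ(v)` -/
def sl (A : GU n F q) (ρ : F ≃+* F) (v : Fin n → F) : Fin n → F := gm A *ᵥ fun i => ρ (v i)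

theorem sl_def (A : GU n F q) (ρ : F ≃+* F) (v : Fin n → F) : sl A ρ v = gm A *ᵥ fun i => ρ (v i) := rfl

theorem sl_add (A : GU n F q) (ρ : F ≃+* F) (v w : Fin n → F) : sl A ρ (v + w) = sl A ρ v + sl A ρ w := by
  rw [sl_def, sl_def, sl_def, ← mulVec_add]
  congr 1
  funext i
  exact map_add ρ _ _

theorem sl_smul (A : GU n F q) (ρ : F ≃+* F) (c : F) (v : Fin n → F) : sl A ρ (c • v) = ρ c • sl A ρ v := by
  rw [sl_def, sl_def, ← mulVec_smul]
  congr 1
  funext i
  exact map_mul ρ _ _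

theorem herm_sl (A : GU n F q) (ρ : F ≃+* F) (u v : Fin n → F) :
    hermForm n F q (sl A ρ u) (sl A ρ v) = ρ (hermForm n F q u v) := herm_semi A ρ u v

/-- apply `ρ` to the entries -/
def gmap (ρ : F ≃+* F) (A : GU n F q) : GU n F q :=
  ⟨GeneralLinearGroup.map (ρ : F →+* F) A.1, by
    intro u v
    have h1 : ∀ w : Fin n → F, ((GeneralLinearGroup.map (ρ : F →+* F) A.1 : GL (Fin n) F) : Matrix (Fin n) (Fin n) F) *ᵥ w =
        fun i => ρ ((gm A *ᵥ fun i => ρ.symm (w i)) i) := by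
      intro w
      funext i
      rw [mulVec, dotProduct, mulVec, dotProduct, map_sum]
      refine Finset.sum_congr rfl fun j _ => ?_
      rw [map_mul, RingEquiv.apply_symm_apply]
      rfl
    have h2 : hermForm n F q (((GeneralLinearGroup.map (ρ : F →+* F) A.1 : GL (Fin n) F) : Matrix (Fin n) (Fin n) F) *ᵥ u)
        (((GeneralLinearGroup.map (ρ : F →+* F) A.1 : GL (Fin n) F) : Matrix (Fin n) (Fin n) F) *ᵥ v) =
        hermForm n F q u v := by
      rw [h1, h1, herm_map, herm_gm, ← herm_map]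
      simp
    exact h2⟩

theorem gm_gmap (ρ : F ≃+* F) (A : GU n F q) : gm (gmap ρ A) = (gm A).map ρ := rfl

theorem map_mulVec (ρ : F ≃+* F) (M : Matrix (Fin n) (Fin n) F) (v : Fin n → F) :
    (M.map ρ) *ᵥ (fun i => ρ (v i)) = fun i => ρ ((M *ᵥ v) i) := by
  funext i
  rw [mulVec, dotProduct, mulVec, dotProduct, map_sum]
  exact Finset.sum_congr rfl fun j _ => by rw [map_mul]; rfl

theorem sl_sl (A B : GU n F q) (ρ σ : F ≃+* F) (v : Fin n → F) :
    sl A ρ (sl B σ v) = sl (A * gmap ρ B) (ρ * σ) v := by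
  rw [sl_def, sl_def, sl_def, gm_mul, gm_gmap, ← mulVec_mulVec]
  congr 1
  exact (map_mulVec ρ (gm B) (fun i => σ (v i))).symm

theorem semiConj_mul (A B : GU n F q) (ρ σ : F ≃+* F) (g : SU n F q) :
    semiConj A ρ (semiConj B σ g) = semiConj (A * gmap ρ B) (ρ * σ) g := by
  apply ext_act
  intro x
  obtain ⟨y, rfl⟩ : ∃ y, sl (A * gmap ρ B) (ρ * σ) y = x := by
    refine ⟨fun i => (ρ * σ).symm ((gm (A * gmap ρ B)⁻¹ *ᵥ x) i), ?_⟩
    rw [sl_def]
    have : (fun i => (ρ * σ) ((ρ * σ).symm ((gm (A * gmap ρ B)⁻¹ *ᵥ x) i))) = gm (A * gmap ρ B)⁻¹ *ᵥ x := by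
      funext i
      rw [RingEquiv.apply_symm_apply]
    rw [this, gm_mulVec_inv]
  have h1 := act_semiConj (A * gmap ρ B) (ρ * σ) g y
  rw [← sl_def, ← sl_def] at h1
  rw [h1, ← sl_sl, ← sl_sl, sl_def A, act_semiConj, ← sl_def A, sl_def B, act_semiConj]
  rfl

theorem toAut_mul (A B : GU n F q) (ρ σ : F ≃+* F) :
    (toAut A ρ * toAut B σ : MulAut (PSU n F q)) = toAut (A * gmap ρ B) (ρ * σ) := by
  ext x
  obtain ⟨g, rfl⟩ := pr_surjective x
  rw [MulAut.mul_apply, PSUAutMain.toAut_pr', PSUAutMain.toAut_pr', PSUAutMain.toAut_pr', semiConj_mul]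

/-- `f` is a semilinear isometry which induces `α` -/
def Ind (f : (Fin n → F) → (Fin n → F)) (α : MulAut (PSU n F q)) : Prop :=
  ∃ (A : GU n F q) (ρ : F ≃+* F), f = sl A ρ ∧ α = toAut A ρ

variable {f g : (Fin n → F) → (Fin n → F)} {α β : MulAut (PSU n F q)}

theorem Ind.comp (h : Ind f α) (h' : Ind g β) : Ind (fun v => f (g v)) (α * β) := by
  obtain ⟨A, ρ, rfl, rfl⟩ := h
  obtain ⟨B, σ, rfl, rfl⟩ := h'
  exact ⟨A * gmap ρ B, ρ * σ, funext fun v => sl_sl A B ρ σ v, toAut_mul A B ρ σ⟩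

theorem Ind.map_add (h : Ind f α) (v w : Fin n → F) : f (v + w) = f v + f w := by
  obtain ⟨A, ρ, rfl, rfl⟩ := h
  exact sl_add A ρ v w

theorem Ind.map_zero (h : Ind f α) : f 0 = 0 := by
  have := h.map_add 0 0
  rw [add_zero] at this
  simpa using this

theorem Ind.map_neg (h : Ind f α) (v : Fin n → F) : f (-v) = -f v := by
  rw [eq_neg_iff_add_eq_zero, ← h.map_add, neg_add_cancel, h.map_zero]

theorem Ind.map_sub (h : Ind f α) (v w : Fin n → F) : f (v - w) = f v - f w := by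
  rw [sub_eq_add_neg, h.map_add, h.map_neg, ← sub_eq_add_neg]

/-- the field automorphism of a semilinear isometry -/
theorem Ind.exists_rho (h : Ind f α) : ∃ ρ : F ≃+* F, (∀ (c : F) (v : Fin n → F), f (c • v) = ρ c • f v) ∧
    ∀ u v, hermForm n F q (f u) (f v) = ρ (hermForm n F q u v) := by
  obtain ⟨A, ρ, rfl, rfl⟩ := h
  exact ⟨ρ, sl_smul A ρ, herm_sl A ρ⟩

theorem ind_act (s : SU n F q) : Ind (act s) (MulAut.conj (pr n F q s)) := by
  refine ⟨⟨SpecialLinearGroup.toGL s.1, fun u v => s.2 u v⟩, RingEquiv.refl F, ?_, ?_⟩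
  · funext v
    rfl
  · ext x
    obtain ⟨g, rfl⟩ := pr_surjective x
    rw [MulAut.conj_apply, ← map_mul, ← map_inv, ← map_mul, PSUAutMain.toAut_pr']
    rfl

theorem ind_one : Ind (fun v => v) (1 : MulAut (PSU n F q)) := by
  have h := ind_act (1 : SU n F q)
  have h2 : act (1 : SU n F q) = fun v => v := funext fun v => act_one v
  rwa [h2, _root_.map_one, _root_.map_one] at h

theorem Ind.bij (h : Ind f α) : ∃ g, Ind g α⁻¹ ∧ (∀ v, f (g v) = v) ∧ ∀ v, g (f v) = v := by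
  obtain ⟨A, ρ, rfl, rfl⟩ := h
  set B : GU n F q := gmap ρ⁻¹ A⁻¹ with hB
  have h1 : ∀ v, sl A ρ (sl B ρ⁻¹ v) = v := by
    intro v
    rw [sl_sl, hB]
    have h2 : A * gmap ρ (gmap ρ⁻¹ A⁻¹) = 1 := by
      apply gm_inj
      rw [gm_mul, gm_gmap, gm_gmap, gm_one, Matrix.map_map]
      have h3 : (⇑ρ ∘ ⇑ρ⁻¹) = id := by
        funext c
        exact ρ.apply_symm_apply c
      rw [h3, Matrix.map_id, gm_mul_inv]
    rw [h2, mul_inv_cancel, sl_def, gm_one, one_mulVec]
    rfl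
  have h2 : ∀ v, sl B ρ⁻¹ (sl A ρ v) = v := by
    intro v
    rw [sl_sl, hB]
    have h2 : gmap ρ⁻¹ A⁻¹ * gmap ρ⁻¹ A = 1 := by
      apply gm_inj
      rw [gm_mul, gm_gmap, gm_gmap, gm_one]
      have h4 : ((gm A⁻¹ * gm A).map ⇑(ρ⁻¹ : F ≃+* F) : Matrix (Fin n) (Fin n) F) =
          (gm A⁻¹).map ⇑(ρ⁻¹ : F ≃+* F) * (gm A).map ⇑(ρ⁻¹ : F ≃+* F) :=
        Matrix.map_mul (f := ((ρ⁻¹ : F ≃+* F) : F →+* F))
      rw [← h4, gm_inv_mul]
      exact Matrix.map_one _ (_root_.map_zero _) (_root_.map_one _)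
    rw [h2, inv_mul_cancel, sl_def, gm_one, one_mulVec]
    rfl
  refine ⟨sl B ρ⁻¹, ⟨B, ρ⁻¹, rfl, ?_⟩, h1, h2⟩
  rw [inv_eq_iff_mul_eq_one, toAut_mul]
  have h3 : A * gmap ρ B = 1 := by
    rw [hB]
    apply gm_inj
    rw [gm_mul, gm_gmap, gm_gmap, gm_one, Matrix.map_map]
    have h3 : (⇑ρ ∘ ⇑ρ⁻¹) = id := by
      funext c
      exact ρ.apply_symm_apply c
    rw [h3, Matrix.map_id, gm_mul_inv]
  rw [h3, mul_inv_cancel]
  ext x
  obtain ⟨g, rfl⟩ := pr_surjective x
  rw [PSUAutMain.toAut_pr', MulAut.one_apply]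
  congr 1
  apply ext_act
  intro v
  have h4 := act_semiConj (1 : GU n F q) (1 : F ≃+* F) g v
  rw [gm_one, one_mulVec, one_mulVec] at h4
  exact h4

theorem Ind.injective (h : Ind f α) : Function.Injective f := by
  obtain ⟨g, -, -, hg⟩ := h.bij
  intro v w hvw
  rw [← hg v, hvw, hg]

theorem Ind.surjective (h : Ind f α) : Function.Surjective f := by
  obtain ⟨g, -, hg, -⟩ := h.bij
  exact fun v => ⟨g v, hg v⟩

/-- `α` on the element induced by a matrix -/
theorem Ind.apply_pr (h : Ind f α) {s s' : SU n F q} (hs : ∀ v, f (act s v) = act s' (f v)) :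
    α (pr n F q s) = pr n F q s' := by
  obtain ⟨A, ρ, rfl, rfl⟩ := h
  rw [PSUAutMain.toAut_pr']
  congr 1
  apply ext_act
  intro v
  obtain ⟨w, rfl⟩ := (show Ind (sl A ρ) (toAut A ρ : MulAut (PSU n F q)) from ⟨A, ρ, rfl, rfl⟩).surjective v
  rw [← hs]
  exact act_semiConj A ρ s w

theorem Ind.conj_pr (h : Ind f α) {s s' : SU n F q} (hs : ∀ v, f (act s v) = act s' (f v)) :
    α * MulAut.conj (pr n F q s) * α⁻¹ = MulAut.conj (pr n F q s') := by
  ext x
  rw [MulAut.mul_apply, MulAut.mul_apply, MulAut.conj_apply, MulAut.conj_apply, _root_.map_mul, _root_.map_mul, _root_.map_inv,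
    MulAut.apply_inv_self, h.apply_pr hs]

/-- the conjugate of a matrix under a semilinear isometry -/
theorem Ind.exists_conj (h : Ind f α) (s : SU n F q) : ∃ s' : SU n F q, ∀ v, f (act s v) = act s' (f v) := by
  obtain ⟨A, ρ, rfl, rfl⟩ := h
  exact ⟨semiConj A ρ s, fun v => (act_semiConj A ρ s v).symm⟩

theorem Ind.inj (h : Ind f α) (h' : Ind f β) : α = β := by
  ext x
  obtain ⟨g, rfl⟩ := pr_surjective x
  obtain ⟨s', hs'⟩ := h.exists_conj g
  rw [h.apply_pr hs', h'.apply_pr hs']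

theorem Ind.iterate (h : Ind f α) (k : ℕ) : Ind (f^[k]) (α ^ k) := by
  induction k with
  | zero => exact ind_one
  | succ k ih =>
    have h1 := h.comp ih
    rw [← pow_succ'] at h1
    have h2 : (fun v => f (f^[k] v)) = f^[k + 1] := by
      funext v
      rw [Function.iterate_succ_apply']
    rwa [h2] at h1

end Basic

section Fin

variable {F : Type*} [Field F] [Fintype F] {n q : ℕ} {f g : (Fin n → F) → (Fin n → F)} {α β : MulAut (PSU n F q)}

theorem exists_ind (hF : Fintype.card F = q ^ 2) (hn : 3 ≤ n) (h32 : ¬ (n = 3 ∧ q = 2)) (α : MulAut (PSU n F q)) :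
    ∃ f, Ind f α := by
  obtain ⟨A, ρ, h⟩ := PSUAutMain.exists_toAut hF hn h32 α
  exact ⟨sl A ρ, A, ρ, rfl, h⟩

end Fin

/-! ### families, covers -/

section Cover

/-- every point of the `Inn S`-orbit of `ω` is fixed by some `x i` -/
def Cov {S ι Ω : Type*} [Group S] [MulAction (MulAut S) Ω] (x : ι → MulAut S) (ω : Ω) : Prop :=
  ∀ s : S, ∃ i, x i • MulAut.conj s • ω = MulAut.conj s • ω

/-- there is no cover, unless `Inn S` fixes the point -/
def Good {S ι : Type*} [Group S] (x : ι → MulAut S) : Prop :=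
  ∀ (Ω : Type) [MulAction (MulAut S) Ω] (ω : Ω), Cov x ω →
    (MulAut.conj : S →* MulAut S).range ≤ MulAction.stabilizer (MulAut S) ω

variable {F : Type*} [Field F] {n q : ℕ} {ι : Type*}

/-- commuting automorphisms of prime orders with commuting lifts -/
structure Fam (x : ι → MulAut (PSU n F q)) (f : ι → (Fin n → F) → (Fin n → F)) (r : ι → ℕ) : Prop where
  ind : ∀ i, Ind (f i) (x i)
  comm : ∀ i j v, f i (f j v) = f j (f i v)
  prime : ∀ i, (r i).Prime
  pow : ∀ i, x i ^ r i = 1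
  ne : ∀ i, x i ≠ 1

theorem Fam.xcomm {x : ι → MulAut (PSU n F q)} {f : ι → (Fin n → F) → (Fin n → F)} {r : ι → ℕ} (h : Fam x f r) (i j : ι) :
    x i * x j = x j * x i := by
  apply ((h.ind i).comp (h.ind j)).inj
  have h1 := (h.ind j).comp (h.ind i)
  have h2 : (fun v => f j (f i v)) = fun v => f i (f j v) := funext fun v => h.comm j i v
  rwa [h2] at h1

end Cover

end Cfsg.Agent.H380.RC
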