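import Cfsg.Agent.H380.RC.Ind
import Cfsg.Agent.H380.RC.Rules

/-!
# S3510, family E (unitary groups): the concrete environment (helper380)

`U : UEnv G Ω N F n q` : `Env G Ω N`, `U.e : N ≃* PSU n F q`, `|F| = q ^ 2`, `n ≥ 3`, `(n, q) ≠ (3, 2)`.

* `U.aut : G →* MulAut (PSU n F q)` (injective), `U.el : SU n F q →* G`;
* `U.Lft x f` : `f : F ^ n → F ^ n` is a semilinear isometry which induces `x`;
* `conj_el` : `x * el s * x⁻¹ = el s'` if `f (act s v) = act s' (f v)`;
* `exists_lft`, `Lft.mul`, `Lft.pow`, `Lft.unique`, `Lft.scalar`, `Lft.inj`, `eq_one_iff`.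
-/

set_option autoImplicit false

namespace Cfsg.Agent.H380.RC

open Matrix Cfsg Cfsg.Agent.LieClassical.HermBasic Cfsg.Agent.LieClassical.HermSiegel
  Cfsg.Agent.LieClassical.HermGen Cfsg.Agent.LieClassical.SUBasic Cfsg.Agent.ClassicalGeometry.PSUAutBasic
  Cfsg.Agent.ClassicalGeometry.PSUAutCount Cfsg.Agent.LieClassical.FieldTransfer Cfsg.Agent.ClassicalGeometry

/-- the environment for `PSU n F q` -/
structure UEnv (G Ω : Type*) [Group G] [MulAction G Ω] (N : Subgroup G) (F : Type*) [Field F] [Fintype F] (n q : ℕ) where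
  env : H106.RC.Env G Ω N
  e : N ≃* PSU n F q
  hF : Fintype.card F = q ^ 2
  hn : 3 ≤ n
  h32 : ¬ (n = 3 ∧ q = 2)

namespace UEnv

variable {G Ω : Type*} [Group G] [MulAction G Ω] {N : Subgroup G} {F : Type*} [Field F] [Fintype F] {n q : ℕ}

/-- the automorphism of `PSU n F q` induced by an element of `G` -/
def aut (U : UEnv G Ω N F n q) : G →* MulAut (PSU n F q) :=
  haveI := U.env.norm
  (MulAut.congr U.e).toMonoidHom.comp (MulAut.conjNormal (H := N))

theorem aut_e (U : UEnv G Ω N F n q) (x : G) (s : N) (h : x * s * x⁻¹ ∈ N) :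
    U.aut x (U.e s) = U.e ⟨x * s * x⁻¹, h⟩ := by
  haveI := U.env.norm
  change U.e (MulAut.conjNormal x (U.e.symm (U.e s))) = _
  rw [MulEquiv.symm_apply_apply]
  congr 1

theorem aut_injective (U : UEnv G Ω N F n q) : Function.Injective U.aut := by
  rw [injective_iff_map_eq_one]
  intro x hx
  have hN := U.env.norm
  have h1 : x ∈ Subgroup.centralizer (N : Set G) := by
    rw [Subgroup.mem_centralizer_iff]
    intro s hs
    have h2 := U.aut_e x ⟨s, hs⟩ (hN.conj_mem s hs x)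
    rw [hx, MulAut.one_apply] at h2
    have h3 := congrArg Subtype.val (U.e.injective h2)
    change s = x * s * x⁻¹ at h3
    nth_rewrite 1 [h3]
    group
  rw [U.env.cent] at h1
  exact Subgroup.mem_bot.1 h1

/-- the element of `G` induced by a matrix -/
def el (U : UEnv G Ω N F n q) : SU n F q →* G := N.subtype.comp (U.e.symm.toMonoidHom.comp (pr n F q))

theorem el_mem (U : UEnv G Ω N F n q) (s : SU n F q) : U.el s ∈ N := (U.e.symm (pr n F q s)).2

theorem e_el (U : UEnv G Ω N F n q) (s : SU n F q) : U.e ⟨U.el s, U.el_mem s⟩ = pr n F q s :=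
  U.e.apply_symm_apply _

theorem exists_el (U : UEnv G Ω N F n q) {x : G} (hx : x ∈ N) : ∃ s, U.el s = x := by
  obtain ⟨s, hs⟩ := pr_surjective (U.e ⟨x, hx⟩)
  refine ⟨s, ?_⟩
  change ((U.e.symm (pr n F q s) : N) : G) = x
  rw [hs, MulEquiv.symm_apply_apply]

theorem el_eq_one (U : UEnv G Ω N F n q) {s : SU n F q} : U.el s = 1 ↔ s ∈ Subgroup.center (SU n F q) := by
  rw [← pr_eq_one_iff]
  change ((U.e.symm (pr n F q s) : N) : G) = 1 ↔ _
  rw [OneMemClass.coe_eq_one]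
  exact map_eq_one_iff U.e.symm U.e.symm.injective

theorem aut_el (U : UEnv G Ω N F n q) (s : SU n F q) : U.aut (U.el s) = MulAut.conj (pr n F q s) := by
  have hN := U.env.norm
  apply MulEquiv.ext
  intro t
  obtain ⟨t, rfl⟩ := pr_surjective t
  have h1 := U.aut_e (U.el s) ⟨U.el t, U.el_mem t⟩ (hN.conj_mem _ (U.el_mem t) _)
  rw [U.e_el t] at h1
  rw [h1, MulAut.conj_apply, ← U.e_el s, ← U.e_el t]
  exact (map_mul U.e (⟨U.el s, U.el_mem s⟩ * ⟨U.el t, U.el_mem t⟩) (⟨U.el s, U.el_mem s⟩⁻¹ : N)).trans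
    (by rw [map_mul, map_inv])

/-- `f` is a semilinear isometry inducing `x` -/
def Lft (U : UEnv G Ω N F n q) (x : G) (f : (Fin n → F) → (Fin n → F)) : Prop := Ind f (U.aut x)

variable {U : UEnv G Ω N F n q} {x y : G} {f g : (Fin n → F) → (Fin n → F)}

theorem exists_lft (U : UEnv G Ω N F n q) (x : G) : ∃ f, U.Lft x f := exists_ind U.hF U.hn U.h32 _

theorem Lft.ind (h : U.Lft x f) : Ind f (U.aut x) := h

theorem Lft.mul (h : U.Lft x f) (h' : U.Lft y g) : U.Lft (x * y) (fun v => f (g v)) := by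
  have h1 := Ind.comp h h'
  rwa [← map_mul] at h1

theorem lft_one (U : UEnv G Ω N F n q) : U.Lft 1 (fun v => v) := by
  have h1 := ind_one (F := F) (n := n) (q := q)
  rwa [← map_one U.aut] at h1

theorem lft_el (U : UEnv G Ω N F n q) (s : SU n F q) : U.Lft (U.el s) (act s) := by
  have h1 := ind_act s
  rwa [← U.aut_el] at h1

theorem Lft.pow (h : U.Lft x f) (k : ℕ) : U.Lft (x ^ k) f^[k] := by
  have h1 := Ind.iterate h k
  rwa [← map_pow] at h1

theorem Lft.inj (h : U.Lft x f) (h' : U.Lft y f) : x = y := U.aut_injective (Ind.inj h h')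

theorem Lft.inv (h : U.Lft x f) : ∃ g, U.Lft x⁻¹ g ∧ (∀ v, f (g v) = v) ∧ ∀ v, g (f v) = v := by
  obtain ⟨g, h1, h2, h3⟩ := Ind.bij h
  rw [← map_inv] at h1
  exact ⟨g, h1, h2, h3⟩

/-- conjugates of matrices -/
theorem Lft.conj_el (h : U.Lft x f) {s s' : SU n F q} (hs : ∀ v, f (act s v) = act s' (f v)) :
    x * U.el s * x⁻¹ = U.el s' := by
  apply U.aut_injective
  rw [map_mul, map_mul, map_inv, U.aut_el, U.aut_el]
  exact Ind.conj_pr h hs

theorem Lft.exists_conj (h : U.Lft x f) (s : SU n F q) : ∃ s' : SU n F q, ∀ v, f (act s v) = act s' (f v) :=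
  Ind.exists_conj h s

/-- two lifts differ by a scalar -/
theorem Lft.unique (h : U.Lft x f) (h' : U.Lft x g) : ∃ c : F, c * c ^ q = 1 ∧ ∀ v, g v = c • f v := by
  obtain ⟨A, ρ, rfl, h1⟩ := h
  obtain ⟨B, σ, rfl, h2⟩ := h'
  obtain ⟨h3, c, h4, h5⟩ := eq_of_toAut_eq U.hF U.hn (h1.symm.trans h2)
  refine ⟨c, h4, fun v => ?_⟩
  rw [sl_def, sl_def, h5, h3, Matrix.smul_mulVec]

/-- scalar multiples of lifts -/
theorem Lft.scalar (h : U.Lft x f) {c : F} (hc : c * c ^ q = 1) : U.Lft x (fun v => c • f v) := by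
  obtain ⟨A, ρ, rfl, h1⟩ := h
  refine ⟨sc n ⟨c, hc⟩ * A, ρ, ?_, by rw [h1, toAut_sc_mul]⟩
  funext v
  rw [sl_def, sl_def, gm_sc_mul, Matrix.smul_mulVec]

/-- an element is trivial iff its lifts are scalars -/
theorem Lft.eq_one_iff (h : U.Lft x f) : x = 1 ↔ ∃ c : F, ∀ v, f v = c • v := by
  constructor
  · rintro rfl
    obtain ⟨c, -, hc⟩ := U.lft_one.unique h
    exact ⟨c, hc⟩
  · rintro ⟨c, hc⟩
    obtain ⟨ρ, h1, h2⟩ := Ind.exists_rho h
    have hn := U.hn
    -- `c` has norm one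
    obtain ⟨v, w, hvw⟩ : ∃ v w : Fin n → F, hermForm n F q v w = 1 := by
      refine ⟨Pi.single ⟨0, by omega⟩ 1, Pi.single ⟨0, by omega⟩ 1, ?_⟩
      rw [herm_single_left, Pi.single_eq_same, one_pow, one_mul]
    have h3 := h2 v w
    rw [hc, hc, herm_smul_left, herm_smul_right, hvw, map_one, mul_one] at h3
    have h4 := (U.lft_one).scalar h3
    have h5 : f = fun v => c • v := funext hc
    rw [h5] at h
    exact h.inj h4

end UEnv

end Cfsg.Agent.H380.RC
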